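import Cfsg.Agent.H7.He.E6
import Cfsg.Agent.H7.HeE7.E
import Cfsg.Agent.H7.He.P
import Cfsg.Agent.H7.Pres3

set_option autoImplicit false
set_option linter.unusedVariables false
set_option maxRecDepth 100000
set_option Elab.async false


namespace CfsgH7.HeB

open Cfsg

theorem b1 : Bd (cl (A.gen Spor.He.extra) 1) 2 :=
  E1.enum.step r1 (bd_zero _) (by decide +kernel) (by norm_num)
theorem b2 : Bd (cl (A.gen Spor.He.extra) 2) 8 :=
  E2.enum.step r2 b1 (by decide +kernel) (by norm_num)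
theorem b4 : Bd (cl (A.gen Spor.He.extra) 4) 48 :=
  E4.enum.step r4 b2 (by decide +kernel) (by norm_num)
theorem b5 : Bd (cl (A.gen Spor.He.extra) 5) 15120 :=
  E5.enum.step r5 b4 (by decide +kernel) (by norm_num)

end CfsgH7.HeB

namespace CfsgH7.He

open Cfsg

theorem base5 : Nat.card (P.W.clL [2, 6, 0, 3, 1]) = 15120 ∧
    P.W.Base (P.W.clL [2, 6, 0, 3, 1]) (List.map Prod.fst [(0, 21, [0x60001, 0x1, 0x10001]), (55, 10, [0x10001, 0x30001, 0x1]), (13, 3, [0x2160106101301601060012]), (30, 2, [0x20001]), (51, 2, [0x16260004]), (280, 2, [0x1]), (1, 3, [0x210310006])]) :=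
  WG.base_clL (j := 9) (P.cl_eq_clL HeB.A (n := 5) (HL := [2, 6, 0, 3, 1]) (by decide +kernel) ▸ HeB.b5) (by decide +kernel)

theorem rz : ∀ r ∈ Z, ev8 (A.gen Spor.He.extra) r = 1 := P.rels_of_base base5.2 (by decide +kernel)

theorem b1 : Bd (cl (A.gen Spor.He.extra) 1) 2 :=
  E1.enum.step r1 (bd_zero _) (by decide +kernel) (by norm_num)
theorem b2 : Bd (cl (A.gen Spor.He.extra) 2) 20 :=
  E2.enum.step r2 b1 (by decide +kernel) (by norm_num)
theorem b3 : Bd (cl (A.gen Spor.He.extra) 3) 20 :=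
  E3.enum.step r3 b2 (by decide +kernel) (by norm_num)
theorem b4 : Bd (cl (A.gen Spor.He.extra) 4) 120 :=
  E4.enum.step (rels_append r4 rz) b3 (by decide +kernel) (by norm_num)
theorem b6 : Bd (cl (A.gen Spor.He.extra) 6) 80640 :=
  E6.enum.step (rels_append r6 rz) b4 (by decide +kernel) (by norm_num)
theorem b7 : Bd (cl (A.gen Spor.He.extra) 7) 4030387200 :=
  E7.enum.step r7 b6 (by decide +kernel) (by norm_num)

end CfsgH7.He
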