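import Cfsg.Agent.H7.He.E
import Cfsg.Agent.H7.He.P

set_option autoImplicit false
set_option linter.unusedVariables false
set_option maxRecDepth 100000
set_option Elab.async false

namespace CfsgH7.He

open Cfsg

def L : List (ℕ × ℕ × List ℕ) := [(1, 136, [0x10001, 0x1, 0x605106450008]), (144, 36, [0x20001, 0x100003, 0x60151060008]), (24, 10, [0x3101462612013000d, 0x143106201510610000f]), (45, 4, [0x201620151061304010011]), (2, 5, [0x3601510610410314010012]), (3, 2, [0x3601510620009])]

theorem stab : P.W.clL HL = MulAction.stabilizer Spor.He (P.W.pt 0) :=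
  rk.eq_stab' rk.le_stab (A.cl_top _ P.code_lt)
    (EH.enum _ _ _ r7 (P.S_mem invOk (by decide +kernel))).1

theorem cb : Nat.card Spor.He = P.W.N * 1958400 ∧
    Nat.card (MulAction.stabilizer Spor.He (P.W.pt 0)) = 1958400 ∧
      P.W.Base ⊤ (0 :: L.map Prod.fst) :=
  rk.card_base (j := 9) (rk.bd_stab (A.cl_top _ P.code_lt) b7) (by decide +kernel)

/-- the group on 2058 points -/
noncomputable def W : WX Spor.He (Pts P.phi) := P.WX invOk [0, 1, 144, 24, 45, 2, 3] cb.2.2

theorem card : Nat.card Spor.He = 4030387200 := cb.1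

theorem coatom : IsCoatom (MulAction.stabilizer Spor.He (W.pt 0)) :=
  rk.coatom (by decide) (by decide +kernel)

theorem simple : IsSimpleGroup Spor.He :=
  W.simple (p := 7) (u := (.w 0x1450003)) (L := [(1, [((.w 0x130002), none), ((.w 0x1310003), none)]), (3, [((.w 0x130002), some (.w 0x10001))]), (4, [((.w 0x140002), some (.w 0x10001))]), (5, [((.w 0x150002), some (.w 0x10001))]), (2, [((.w 0x65626120007), none), ((.w 0x656261265042000c), none), ((.w 0x65626120007), none), ((.w 0x656261265042000c), none), ((.w 0x65626120007), none), ((.w 0x656261265042000c), none)]), (0, [((.w 0x1015014310131010462601013210410314010025), some (.w 0x3250003))]), (6, [((.w 0x60002), some (.w 0x1))]), (7, [((.w 0x0), some (.w 0x26260004))]), (8, [((.w 0x0), some (.w 0x60130004))]), (9, [((.w 0x0), some (.w 0x6013601360136013601360136013001c))]), (10, [((.w 0x0), some (.w 0x10002))]), (11, [((.w 0x0), some (.w 0x101010101000a))])])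
    rk.trans coatom cb.2.1 (by decide +kernel)

end CfsgH7.He
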